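import Groth.Agent.Models.H54.FibreAmple
import Groth.Agent.Models.H55.CompGeom
import Groth.Agent.ArSurf.K480.SurfDim
import Groth.Agent.ArSurf.K480.ExcRec
import Groth.Agent.Models.H65.PicDeg
import Groth.Agent.Sga5.AmpleFib
import Groth.Agent.S0054

/-!
# Components of the closed fibre of a fibered surface, and ampleness from positive degrees (helper638)

* `exists_componentList`: `Y` integral, flat and proper of dimension two over a discrete valuation ring;
* `isAmple_of_inter_pos`: an invertible module of positive degree on every component is ample.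
-/

set_option autoImplicit false
universe u
open CategoryTheory CategoryTheory.Limits AlgebraicGeometry TopologicalSpace
open Groth.Agent

namespace K638.AmpleVert

open Groth.Agent.CurvesC.CompGeom Groth.Agent.CurvesC.NodalPos Groth.Agent.Fdesc.LocGen

variable {R : Type u} [CommRing R] [IsDomain R] [IsDiscreteValuationRing R]
  {Y : Over (Spec (CommRingCat.of R))}

theorem hom_closed [IsProper Y.hom] (x : Y.left) (hx : IsClosed ({x} : Set Y.left)) :
    Y.hom x = IsLocalRing.closedPoint R := by
  have h7 : IsClosed ({Y.hom x} : Set (Spec (CommRingCat.of R))) := by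
    have h8 := Y.hom.isClosedMap _ hx
    rwa [Set.image_singleton] at h8
  have h9 : (Y.hom x).asIdeal.IsMaximal := (PrimeSpectrum.isClosed_singleton_iff_isMaximal _).mp h7
  exact PrimeSpectrum.ext (IsLocalRing.eq_maximalIdeal h9)

theorem stalk_dim_closed [IsIntegral Y.left] [Flat Y.hom] [IsProper Y.hom] (hdim : topologicalKrullDim Y.left = 2)
    (x : Y.left) (hx : IsClosed ({x} : Set Y.left)) : ringKrullDim (Y.left.presheaf.stalk x) = 2 := by
  refine K480.SurfDim.ringKrullDim_stalk_eq_two hdim x hx ?_
  rw [hom_closed x hx]
  exact IsDiscreteValuationRing.not_a_field R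

theorem hom_gen [IsIntegral Y.left] [Flat Y.hom] : Y.hom (genericPoint Y.left) ≠ IsLocalRing.closedPoint R := by
  intro h
  have h3 := Groth.Agent.Dix.GenFibre.asIdeal_hom_genericPoint Y
  rw [h] at h3
  exact IsDiscreteValuationRing.not_a_field R h3

/-- The list of the components of the closed fibre of a fibered surface. -/
theorem exists_componentList [IsIntegral Y.left] [Flat Y.hom] [IsProper Y.hom]
    (hdim : topologicalKrullDim Y.left = 2) :
    ∃ (n : ℕ) (Γ : Fin n → ArSurf.VertComp R Y), Models.IsComponentList R Y Γ :=
  Models.H55.CompGeom.exists_componentList (fun x hx => stalk_dim_closed hdim x hx) hom_gen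

/-- **Ampleness** of an invertible module with positive degrees on all the components of the closed fibre. -/
theorem isAmple_of_inter_pos [IsProper Y.hom] {n : ℕ} (Δ : Fin n → ArSurf.VertComp R Y)
    (hΔ : Models.IsComponentList R Y Δ) {M : Y.left.Modules} (hM : PicF.IsInvertible M)
    (h : ∀ j, 0 < ArSurf.inter R Y M (Δ j)) : CohB1.IsAmple M := by
  refine Groth.Agent.S0054.isAmple_of_local Y.hom M hM ?_
  let s : Spec (CommRingCat.of R) := IsLocalRing.closedPoint R
  have hs : IsClosedImmersion ((Spec (CommRingCat.of R)).fromSpecResidueField s) :=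
    isClosed_singleton_iff_isClosedImmersion.mp (IsLocalRing.isClosed_singleton_closedPoint R)
  let F := Y.hom.fiber s
  let i : F ⟶ Y.left := Y.hom.fiberι s
  have hi : IsClosedImmersion i := MorphismProperty.pullback_fst _ _ hs
  have hir : Set.range i = Y.hom ⁻¹' {(IsLocalRing.closedPoint R : PrimeSpectrum R)} := Y.hom.range_fiberι s
  let _ : F.Over (Spec (CommRingCat.of ((Spec (CommRingCat.of R)).residueField s))) :=
    ⟨Y.hom.fiberToSpecResidueField s⟩
  have hF : IsProper (F ↘ (Spec (CommRingCat.of ((Spec (CommRingCat.of R)).residueField s)))) :=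
    inferInstanceAs (IsProper (pullback.snd Y.hom ((Spec (CommRingCat.of R)).fromSpecResidueField s)))
  refine Groth.Agent.CurvesC.AmpleComp.isAmple_of_components ((Spec (CommRingCat.of R)).residueField s) F _
    (isInvertible_pullback i hM) fun C hC => ?_
  let a : (IC F C hC).subscheme ⟶ Y.left := (IC F C hC).subschemeι ≫ i
  have ha : Set.range a ∈ Models.fibreComponents R Y := by
    rw [Models.H55.CompGeom.mem_fibreComponents_iff]
    refine ⟨i ((IC F C hC).subschemeι (genericPoint (IC F C hC).subscheme)),
      Models.H54.FibreAmple.hom_apply Y i hir _, Models.H54.FibreAmple.isMinPt_gen Y i hir C hC, ?_⟩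
    have h1 := a.isClosedEmbedding.isClosedMap.closure_image_eq_of_continuous a.continuous
      (s := {genericPoint (IC F C hC).subscheme})
    rw [Set.image_singleton, genericPoint_closure, Set.image_univ] at h1
    exact h1.symm
  rw [← hΔ.2] at ha
  obtain ⟨j, hj⟩ := ha
  obtain ⟨e, he⟩ := K480.ExcRec.exists_iso_of_range_eq a (Δ j).ι hj.symm
  have hp := Models.H65.PicDeg.isProper_curve (Δ j)
  have h1 : CohB1.IsAmple ((Scheme.Modules.pullback (Δ j).ι).obj M) := by
    refine (Groth.Agent.S1530.result (IsLocalRing.ResidueField R) (Δ j).curve.left (Δ j).dim_eq _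
      (isInvertible_pullback _ hM)).2 ?_
    rw [← Models.H65.PicDeg.inter_eq]
    exact h j
  have h2 := Sga5.AmpleFib.isAmple_pullback e.hom h1
  refine Groth.Agent.Flat2H.FamDict.isAmple_of_iso ?_ h2
  exact (Scheme.Modules.pullbackComp e.hom (Δ j).ι).app M ≪≫ (Scheme.Modules.pullbackCongr he).app M ≪≫
    ((Scheme.Modules.pullbackComp (IC F C hC).subschemeι i).app M).symm

end K638.AmpleVert
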