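import Groth.Agent.ArSurf.K638.CanonRes
import Groth.Agent.AlgSp.K622.PicKer
import Groth.Agent.ArSurf.K480.Contr
import Groth.Agent.Models.H65.ContrInter
import Groth.Agent.PicF.K245.DescUnit

/-!
# The canonical sheaf of a contraction of `K`-trivial curves (helper638)

* `eq_one_of_numTriv`: a class trivial off curves with negative definite intersection matrix, of degree `0` on each of
  them, is trivial;
* `canonical_pullback`: `f^* ω_Y ≅ ω_X` for a contraction of curves with `K · Γ = 0`;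
* `push_pull`: `f_* f^* M ≅ M` for `M` invertible.
-/

set_option autoImplicit false
universe u
open CategoryTheory CategoryTheory.Limits AlgebraicGeometry
open Groth.Agent

namespace K638.CanonPull

open K482.CanonVia K638.CanonRes
open Groth.Agent.Grpsch.PicGrp Groth.Agent.Fdesc.LocGen Groth.Agent.Dix.IdealModCartier
open Groth.Agent.Divis.EffCartier Groth.Agent.Models.H65.PicDeg

variable {R : Type u} [CommRing R] [IsDomain R] [IsDiscreteValuationRing R]

/-- the class of the ideal of a vertical prime divisor -/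
theorem deg_ic {X : Over (Spec (CommRingCat.of R))} [IsProper X.hom] {D : X.left.IdealSheafData} {L : X.left.Modules}
    (hL : ClSub.IsInverseOf L (ClSub.idealMod D)) (hD : BlowUp.IsEffCartierIdeal D) (Γ : ArSurf.VertComp R X) :
    deg Γ (K622.PicKer.ic D hD) = - ArSurf.inter R X L Γ := by
  have hL' := isInvertible_of_isInverseOf hL
  have h1 : K622.PicKer.ic D hD = (mk L hL'.1)⁻¹ := by
    rw [eq_comm, inv_eq_iff_mul_eq_one, K622.PicKer.ic, mk_mul_mk, mk_eq_one_iff]
    exact hL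
  rw [h1, deg_inv, deg_mk]

/-- A class trivial off the curves and of degree `0` on them is trivial if the matrix is negative definite. -/
theorem eq_one_of_numTriv {X : Over (Spec (CommRingCat.of R))} [IsProper X.hom] [IsIntegral X.left]
    [IsNoetherian X.left] {r : ℕ} (Γ : Fin r → ArSurf.VertComp R X)
    (L : Fin r → X.left.Modules) (hL : ∀ j, ClSub.IsInverseOf (L j) (ClSub.idealMod (Γ j).ι.ker))
    (hneg : ∀ c : Fin r → ℤ, c ≠ 0 →
      (Finset.univ : Finset (Fin r × Fin r)).sum (fun p => c p.1 * c p.2 * ArSurf.inter R X (L p.2) (Γ p.1)) < 0)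
    {V : Scheme.{u}} (j : V ⟶ X.left) [IsOpenImmersion j] [Nonempty V]
    (hj : Set.range j = (⋃ i, Set.range (Γ i).ι)ᶜ) (M : Pic X.left) (hM : pull j M = 1)
    (hdeg : ∀ i, deg (Γ i) M = 0) : M = 1 := by
  have hD : ∀ i, BlowUp.IsEffCartierIdeal (Γ i).ι.ker := fun i => isEffCartierIdeal_of_isInverseOf (hL i)
  have hint : ∀ i, IsIntegral ((Γ i).ι.ker).subscheme := by
    intro i
    have := (Γ i).isIntegral
    exact Models.H38.TrivGen.isIntegral_ker_subscheme (Γ i).ι
  obtain ⟨b, hb⟩ := K622.PicKer.exists_prod j (fun i => (Γ i).ι.ker) hD hint (by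
    rw [hj]
    congr 1
    refine Set.iUnion_congr fun i => ?_
    rw [Scheme.Hom.support_ker, (Γ i).ι.isClosedEmbedding.isClosed_range.closure_eq]) M hM
  have h1 : ∀ i, ∑ k, b k * ArSurf.inter R X (L k) (Γ i) = 0 := by
    intro i
    have h2 := hdeg i
    rw [hb, deg_prod_zpow] at h2
    have h3 : ∑ k, b k * deg (Γ i) (K622.PicKer.ic (Γ k).ι.ker (hD k)) =
        - ∑ k, b k * ArSurf.inter R X (L k) (Γ i) := by
      rw [← Finset.sum_neg_distrib]
      refine Finset.sum_congr rfl fun k _ => ?_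
      rw [deg_ic (hL k) (hD k)]
      ring
    rw [h3] at h2
    linarith
  have h4 : b = 0 := by
    by_contra hne
    have h5 := hneg b hne
    rw [← Finset.univ_product_univ, Finset.sum_product] at h5
    have h6 : ∀ i ∈ (Finset.univ : Finset (Fin r)), (∑ k, b i * b k * ArSurf.inter R X (L k) (Γ i)) = 0 := by
      intro i _
      have h7 : (∑ k, b i * b k * ArSurf.inter R X (L k) (Γ i)) = b i * ∑ k, b k * ArSurf.inter R X (L k) (Γ i) := by
        rw [Finset.mul_sum]
        exact Finset.sum_congr rfl fun k _ => mul_assoc _ _ _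
      rw [h7, h1 i, mul_zero]
    rw [Finset.sum_eq_zero h6] at h5
    exact lt_irrefl _ h5
  rw [hb, h4]
  simp

/-- `f^* ω_Y ≅ ω_X` for a contraction of curves with `K · Γ = 0`. -/
theorem canonical_pullback {X : Over (Spec (CommRingCat.of R))} (hX : ArSurf.IsArithSurface R X)
    {r : ℕ} (Γ : Fin r → ArSurf.VertComp R X)
    (L : Fin r → X.left.Modules) (hL : ∀ j, ClSub.IsInverseOf (L j) (ClSub.idealMod (Γ j).ι.ker))
    (hneg : ∀ c : Fin r → ℤ, c ≠ 0 →
      (Finset.univ : Finset (Fin r × Fin r)).sum (fun p => c p.1 * c p.2 * ArSurf.inter R X (L p.2) (Γ p.1)) < 0)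
    {ωX : X.left.Modules} (hωX : Canon.IsCanonical X.hom ωX) (hK : ∀ i, ArSurf.inter R X ωX (Γ i) = 0)
    {Y : Over (Spec (CommRingCat.of R))} (f : X ⟶ Y) [IsProper f.left]
    (hfpt : ∀ i, ∃ y : Y.left, f.left '' (Set.range (Γ i).ι) = {y})
    (d : K480.Contr.Data f.left (fun i => Set.range (Γ i).ι)) (hne : (f.left '' ⋃ i, Set.range (Γ i).ι) ≠ Set.univ)
    {ωY : Y.left.Modules} (hωY : Canon.IsCanonical Y.hom ωY) :
    Nonempty ((Scheme.Modules.pullback f.left).obj ωY ≅ ωX) := by
  have hXint : IsIntegral X.left := hX.2.1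
  have hpX : IsProper X.hom := Dix.SurfBasic.isProper hX
  have hNX : IsNoetherian X.left := Dix.SurfBasic.isNoetherian hX
  have iX := isInvertible_canonical hωX
  have iY := isInvertible_canonical hωY
  have iP := isInvertible_pullback f.left iY
  let U : Y.left.Opens := ⟨(f.left '' ⋃ i, Set.range (Γ i).ι)ᶜ, d.isClosed.isOpen_compl⟩
  have hU : IsIso (f.left ∣_ U) := d.iso U rfl
  let V : X.left.Opens := f.left ⁻¹ᵁ U
  have hV : (V : Set X.left) = (⋃ i, Set.range (Γ i).ι)ᶜ := by
    change f.left ⁻¹' (f.left '' ⋃ i, Set.range (Γ i).ι)ᶜ = _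
    rw [Set.preimage_compl, d.pre]
  have hUne : Nonempty U := by
    obtain ⟨y, hy⟩ := (Set.ne_univ_iff_exists_notMem _).1 hne
    exact ⟨⟨y, hy⟩⟩
  have hVne : Nonempty (V : Scheme.{u}) := by
    obtain ⟨u⟩ := hUne
    obtain ⟨v, -⟩ := (f.left ∣_ U).surjective u
    exact ⟨v⟩
  -- both restrictions are canonical
  have c1 : Canon.IsCanonical (U.ι ≫ Y.hom) ((Scheme.Modules.pullback U.ι).obj ωY) := isCanonical_pullback U.ι hωY
  have c2 := isCanonical_pullback (f.left ∣_ U) c1
  have c3 : Canon.IsCanonical (V.ι ≫ X.hom) ((Scheme.Modules.pullback V.ι).obj ωX) := isCanonical_pullback V.ι hωX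
  have hw : (f.left ∣_ U) ≫ U.ι ≫ Y.hom = V.ι ≫ X.hom := by
    rw [← Category.assoc, morphismRestrict_ι, Category.assoc, Over.w]
  rw [hw] at c2
  obtain ⟨e⟩ := canonical_unique c2 c3
  have key : mk ωX iX * (mk _ iP)⁻¹ = 1 := by
    refine eq_one_of_numTriv Γ L hL hneg V.ι (by rw [Scheme.Opens.range_ι]; exact hV) _ ?_ ?_
    · rw [map_mul, map_inv, mul_inv_eq_one, pull_mk, pull_mk, mk_eq_iff]
      refine ⟨e.symm ≪≫ (Scheme.Modules.pullbackComp (f.left ∣_ U) U.ι).app ωY ≪≫
        (Scheme.Modules.pullbackCongr (morphismRestrict_ι f.left U)).app ωY ≪≫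
        ((Scheme.Modules.pullbackComp V.ι f.left).app ωY).symm⟩
    · intro i
      obtain ⟨y, hy⟩ := hfpt i
      rw [deg_mul, deg_inv, deg_mk, deg_mk, hK i, Models.H65.ContrInter.inter_pullback_exc (Γ i) y ?_ iY]
      · simp
      · intro e
        have h1 : f.left ((Γ i).ι e) ∈ f.left '' (Set.range (Γ i).ι) := ⟨_, ⟨e, rfl⟩, rfl⟩
        rw [hy] at h1
        exact h1
  rw [mul_inv_eq_one, mk_eq_iff] at key
  obtain ⟨e'⟩ := key
  exact ⟨e'.symm⟩

/-- `f_* M' ≅ M` if `f^* M ≅ M'` and `f_* O_X = O_Y`. -/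
theorem push_pull {X Y : Scheme.{u}} (f : X ⟶ Y) (hO : ∀ U : Y.Opens, IsIso (f.app U)) {M : Y.Modules}
    (hM : PicF.IsInvertible M) {M' : X.Modules} (h : Nonempty ((Scheme.Modules.pullback f).obj M ≅ M')) :
    Nonempty ((Scheme.Modules.pushforward f).obj M' ≅ M) := by
  obtain ⟨e⟩ := h
  have := K245.DescUnit.isIso_unit f hO
    (Ega2.QCohLocal.isFinLocFree_of_rank (Ega2.QCohLocal.isFinLocFreeOfRank_one_iff.2 hM))
  exact ⟨((Scheme.Modules.pushforward f).mapIso e).symm ≪≫
    (asIso ((Scheme.Modules.pullbackPushforwardAdjunction f).unit.app M)).symm⟩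

/-- Powers. -/
theorem pull_pow {X Y : Scheme.{u}} (f : X ⟶ Y) {M : Y.Modules} {M' : X.Modules} (hM : PicF.IsInvertible M)
    (hM' : PicF.IsInvertible M') (h : Nonempty ((Scheme.Modules.pullback f).obj M ≅ M')) (q : ℕ) :
    Nonempty ((Scheme.Modules.pullback f).obj (CohB1.tensorPow M q) ≅ CohB1.tensorPow M' q) := by
  have h1 : pull f (mk M hM) = mk M' hM' := by
    rw [pull_mk, mk_eq_iff]
    exact h
  have h2 := congrArg (· ^ q) h1
  rw [← map_pow, ← mk_tensorPow hM, ← mk_tensorPow hM', pull_mk, mk_eq_iff] at h2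
  exact h2

end K638.CanonPull
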