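import Groth.Agent.ArSurf.K638.AmpleVert
import Groth.Agent.ArSurf.K638.CanonPull
import Groth.Agent.Variety.K432.SemiAmp
import Groth.Agent.Dix.SurfBasic
import Groth.Agent.Dix.GenFibre
import Groth.Agent.Ega1.AmpFam

/-!
# Ampleness of the canonical sheaf of the canonical model (helper638)

* `inter_pos`: positivity of `ω_Y` on the components of the closed fibre of the contraction;
* `isAmple`: `ω_Y` is ample;
* `exists_gg`: a positive power of `f^* ω_Y` is generated by its global sections.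
-/

set_option autoImplicit false
universe u
open CategoryTheory CategoryTheory.Limits AlgebraicGeometry TopologicalSpace
open Groth.Agent

namespace K638.CanonAmple

open Groth.Agent.Fdesc.LocGen Groth.Agent.Models.H65.PicDeg Groth.Agent.Dix.FibreMin
open Groth.Agent.Grpsch.PicGrp

variable {R : Type u} [CommRing R] [IsDomain R] [IsDiscreteValuationRing R]

theorem range_eq_closure {X : Over (Spec (CommRingCat.of R))} (Δ : ArSurf.VertComp R X) :
    Set.range Δ.ι = closure {Δ.ι (genericPoint Δ.curve.left)} := by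
  have h1 := Δ.ι.isClosedEmbedding.isClosedMap.closure_image_eq_of_continuous Δ.ι.continuous
    (s := {genericPoint Δ.curve.left})
  rw [Set.image_singleton, genericPoint_closure, Set.image_univ] at h1
  exact h1.symm

theorem not_isClosed_gen {X : Over (Spec (CommRingCat.of R))} (Δ : ArSurf.VertComp R X) :
    ¬ IsClosed ({Δ.ι (genericPoint Δ.curve.left)} : Set X.left) := by
  intro h
  have h1 := range_eq_closure Δ
  rw [h.closure_eq] at h1
  have h2 : Subsingleton Δ.curve.left := by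
    refine ⟨fun a b => Δ.ι.isClosedEmbedding.injective ?_⟩
    have ha : Δ.ι a ∈ Set.range Δ.ι := ⟨a, rfl⟩
    have hb : Δ.ι b ∈ Set.range Δ.ι := ⟨b, rfl⟩
    rw [h1] at ha hb
    exact ha.trans hb.symm
  have h3 := Δ.dim_eq
  rw [CurvesB.DimPts.krullDim_eq] at h3
  have h4 : Order.krullDim Δ.curve.left ≤ 0 := Order.krullDim_nonpos_of_subsingleton
  rw [h3] at h4
  exact absurd h4 (by decide)

/-- The strict transform of a component of the closed fibre. -/
theorem exists_strict {X Y : Over (Spec (CommRingCat.of R))} [IsIntegral X.left] [Flat X.hom] [IsProper X.hom]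
    (hXdim : topologicalKrullDim X.left = 2) (f : X ⟶ Y) [IsProper f.left] (U : Y.left.Opens)
    (hU : IsIso (f.left ∣_ U)) (hcl : ∀ y : Y.left, y ∉ U → IsClosed ({y} : Set Y.left))
    (Δ : ArSurf.VertComp R Y) (hΔ : Set.range (Δ.ι.base : Δ.curve.left → Y.left) ∈ Models.fibreComponents R Y) :
    ∃ C : ArSurf.VertComp R X, (∀ z, ∃ w, Δ.ι w = f.left (C.ι z)) ∧ (∀ w, ∃ z, Δ.ι w = f.left (C.ι z)) ∧
      (∃ w, Δ.ι w ∈ U) ∧ ∃ ξ ∈ Set.range C.ι, f.left ξ ∈ U := by
  obtain ⟨η, hη, hmin, hcη⟩ := (Models.H55.CompGeom.mem_fibreComponents_iff _).1 hΔ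
  have hηg : Δ.ι (genericPoint Δ.curve.left) = η := by
    have h1 : closure {Δ.ι (genericPoint Δ.curve.left)} = closure {η} := (range_eq_closure Δ).symm.trans hcη
    have h2 : Δ.ι (genericPoint Δ.curve.left) ⤳ η := by
      rw [specializes_iff_mem_closure, h1]; exact subset_closure rfl
    have h3 : η ⤳ Δ.ι (genericPoint Δ.curve.left) := by
      rw [specializes_iff_mem_closure, ← h1]; exact subset_closure rfl
    exact (h2.antisymm h3).eq
  have hηU : η ∈ U := by
    by_contra hn
    refine not_isClosed_gen Δ ?_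
    rw [hηg]
    exact hcl η hn
  obtain ⟨x, hx⟩ : ∃ x : (f.left ⁻¹ᵁ U : X.left.Opens), (f.left ∣_ U) x = ⟨η, hηU⟩ := (f.left ∣_ U).surjective _
  have hfx : f.left x.1 = η := by
    have h1 := congrArg U.ι hx
    rw [← Scheme.Hom.comp_apply, morphismRestrict_ι] at h1
    exact h1
  have hw : ∀ z : X.left, Y.hom (f.left z) = X.hom z := fun z => by
    rw [← Scheme.Hom.comp_apply, Over.w]
  have hξ : X.hom x.1 = IsLocalRing.closedPoint R := by rw [← hw, hfx]; exact hη
  have hξmin : IsMinPt X.hom x.1 := by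
    intro w hwx hpw
    have h1 : f.left w ⤳ η := by rw [← hfx]; exact hwx.map f.left.continuous
    have h2 : f.left w = η := hmin _ h1 (by rw [hw, hpw, hξ, hη])
    exact (Dix.BirIso.inj f.left U hU x.1 w (by rw [hfx]; exact hηU)
      (by rw [hfx, h2])).symm
  obtain ⟨C, hC⟩ := Models.H55.CompGeom.exists_vertComp
    (fun x hx => AmpleVert.stalk_dim_closed hXdim x hx) AmpleVert.hom_gen x.1 hξ hξmin
  have hC' : Set.range C.ι = closure {x.1} := hC
  have hcη' : Set.range Δ.ι = closure {η} := hcη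
  refine ⟨C, ?_, ?_, ⟨genericPoint Δ.curve.left, by rw [hηg]; exact hηU⟩, x.1, ?_, by rw [hfx]; exact hηU⟩
  · intro z
    have h1 : C.ι z ∈ closure {x.1} := hC' ▸ ⟨z, rfl⟩
    have h2 : η ⤳ f.left (C.ι z) := by
      rw [← hfx]
      exact (specializes_iff_mem_closure.2 h1).map f.left.continuous
    have h3 : f.left (C.ι z) ∈ Set.range Δ.ι := by
      rw [hcη']
      exact specializes_iff_mem_closure.1 h2
    exact h3
  · intro w
    have h1 : Δ.ι w ∈ closure {η} := hcη' ▸ ⟨w, rfl⟩
    have h2 : IsClosed (f.left '' Set.range C.ι) := f.left.isClosedMap _ C.ι.isClosedEmbedding.isClosed_range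
    have h3 : closure {η} ⊆ f.left '' Set.range C.ι := by
      refine closure_minimal ?_ h2
      rintro _ rfl
      refine ⟨x.1, ?_, hfx⟩
      rw [hC']
      exact subset_closure rfl
    obtain ⟨_, ⟨z, rfl⟩, hz⟩ := h3 h1
    exact ⟨z, hz.symm⟩
  · rw [hC']
    exact subset_closure rfl

/-- Positivity of `ω_Y` on the components of the closed fibre. -/
theorem inter_pos {X Y : Over (Spec (CommRingCat.of R))} [IsIntegral X.left] [Flat X.hom] [IsProper X.hom]
    [IsProper Y.hom] (hXdim : topologicalKrullDim X.left = 2) (f : X ⟶ Y) [IsProper f.left] (U : Y.left.Opens)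
    (hU : IsIso (f.left ∣_ U)) (hcl : ∀ y : Y.left, y ∉ U → IsClosed ({y} : Set Y.left))
    {ωX : X.left.Modules} {ωY : Y.left.Modules} (iY : PicF.IsInvertible ωY)
    (e : (Scheme.Modules.pullback f.left).obj ωY ≅ ωX)
    (hpos : ∀ C : ArSurf.VertComp R X, (∃ ξ ∈ Set.range C.ι, f.left ξ ∈ U) → 0 < ArSurf.inter R X ωX C)
    (Δ : ArSurf.VertComp R Y) (hΔ : Set.range (Δ.ι.base : Δ.curve.left → Y.left) ∈ Models.fibreComponents R Y) :
    0 < ArSurf.inter R Y ωY Δ := by
  obtain ⟨C, h, h', hV, hξ⟩ := exists_strict hXdim f U hU hcl Δ hΔ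
  rw [← Models.H65.ContrInter.inter_pullback (Over.w f) U h h' hV iY, inter_congr e]
  exact hpos C hξ

/-- Global generation of a power of the pull-back of an ample invertible module. -/
theorem exists_gg {X Y : Scheme.{u}} [CompactSpace X] (f : X ⟶ Y) {M : Y.Modules} (hM : CohB1.IsAmple M)
    {M' : X.Modules} (hM' : PicF.IsInvertible M') (e : (Scheme.Modules.pullback f).obj M ≅ M') :
    ∃ m : ℕ, 1 ≤ m ∧ Curv2.IsGloballyGenerated (CohB1.tensorPow M' m) := by
  refine K432.SemiAmp.exists_gg_pow hM' fun x => ?_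
  obtain ⟨n, t, hx, -⟩ := hM.2.2 (f x)
  obtain ⟨e'⟩ := CanonPull.pull_pow f hM.1 hM' ⟨e⟩ (n + 1)
  refine ⟨n, pullHom f t ≫ e'.hom, ?_⟩
  have h1 : x ∈ CohB1.genLocus _ (pullHom f t) := by
    rw [Ega1.AmpFam.genLocus_pullHom f (isInvertible_tensorPow hM.1 (n + 1))]
    exact hx
  rwa [Ega2.SecCalc.genLocus_comp]

/-- The canonical sheaf of the canonical model is ample, and some power of `ω_X` is globally generated. -/
theorem main {X : Over (Spec (CommRingCat.of R))} (hX : ArSurf.IsArithSurface R X)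
    {ωX : X.left.Modules} (hωX : Canon.IsCanonical X.hom ωX)
    (hnef : ∀ C : ArSurf.VertComp R X, 0 ≤ ArSurf.inter R X ωX C)
    {r : ℕ} (Γ : Fin r → ArSurf.VertComp R X)
    (L : Fin r → X.left.Modules) (hL : ∀ j, ClSub.IsInverseOf (L j) (ClSub.idealMod (Γ j).ι.ker))
    (hK : ∀ i, ArSurf.inter R X ωX (Γ i) = 0)
    (hall : ∀ C : ArSurf.VertComp R X, ArSurf.inter R X ωX C = 0 →
      ∃ i, Set.range (C.ι.base : C.curve.left → X.left) = Set.range ((Γ i).ι.base : (Γ i).curve.left → X.left))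
    (hneg : ∀ c : Fin r → ℤ, c ≠ 0 →
      (Finset.univ : Finset (Fin r × Fin r)).sum (fun p => c p.1 * c p.2 * ArSurf.inter R X (L p.2) (Γ p.1)) < 0)
    {Y : Over (Spec (CommRingCat.of R))} (f : X ⟶ Y)
    (hYint : IsIntegral Y.left) (hYdim : topologicalKrullDim Y.left = 2) (hYfl : Flat Y.hom)
    (hYpr : Neron.IsProjectiveOver R Y)
    (hfpt : ∀ i, ∃ y : Y.left, Set.range (((Γ i).ι ≫ f.left).base : (Γ i).curve.left → Y.left) = {y})
    (hfpre : f.left.base ⁻¹' (f.left.base '' ⋃ i, Set.range (Γ i).ι.base) = ⋃ i, Set.range (Γ i).ι.base)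
    (hfiso : ∀ V : Y.left.Opens, (V : Set Y.left) ∩ f.left.base '' (⋃ i, Set.range (Γ i).ι.base) = ∅ →
      IsIso (f.left ∣_ V))
    {ωY : Y.left.Modules} (hωY : Canon.IsCanonical Y.hom ωY) :
    CohB1.IsAmple ωY ∧ ∃ m : ℕ, 1 ≤ m ∧ Curv2.IsGloballyGenerated (CohB1.tensorPow ωX m) := by
  have hXint : IsIntegral X.left := hX.2.1
  have hXfl : Flat X.hom := hX.2.2.2.1
  have hpX : IsProper X.hom := Dix.SurfBasic.isProper hX
  have hYp : IsProper Y.hom := Dix.GenFibre.isProper_of_isProjectiveOver hYpr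
  have hNX : IsLocallyNoetherian X.left := LocallyOfFiniteType.isLocallyNoetherian X.hom
  have hcX : CompactSpace X.left := QuasiCompact.compactSpace_of_compactSpace X.hom
  have hNY : IsLocallyNoetherian Y.left := LocallyOfFiniteType.isLocallyNoetherian Y.hom
  have hfp : IsProper f.left := by
    have : IsProper (f.left ≫ Y.hom) := by rw [Over.w]; exact hpX
    exact IsProper.of_comp f.left Y.hom
  let Z : Fin r → Set X.left := fun i => Set.range (Γ i).ι
  have hZ : ∀ i, IsClosed (Z i) := fun i => (Γ i).ι.isClosedEmbedding.isClosed_range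
  have hfpt' : ∀ i, ∃ y : Y.left, f.left '' (Set.range (Γ i).ι) = {y} := fun i => by
    obtain ⟨y, hy⟩ := hfpt i
    exact ⟨y, (K480.Contr.range_comp (Γ i).ι f.left).symm.trans hy⟩
  have d : K480.Contr.Data f.left Z := K480.Contr.Data.mk' f.left Z hZ hfpt' hfpre hfiso
  have hne : (f.left '' ⋃ i, Z i) ≠ Set.univ := by
    intro h
    exact K480.Contr.genericPoint_ne hYdim _
      (d.closed (genericPoint Y.left) (by rw [h]; exact Set.mem_univ _)) rfl
  obtain ⟨e⟩ := CanonPull.canonical_pullback hX Γ L hL hneg hωX hK f hfpt' d hne hωY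
  let U : Y.left.Opens := ⟨(f.left '' ⋃ i, Z i)ᶜ, d.isClosed.isOpen_compl⟩
  have iX := K482.CanonVia.isInvertible_canonical hωX
  have iY := K482.CanonVia.isInvertible_canonical hωY
  obtain ⟨n, Δ, hΔ⟩ := AmpleVert.exists_componentList (Y := Y) hYdim
  have hamp : CohB1.IsAmple ωY := by
    refine AmpleVert.isAmple_of_inter_pos Δ hΔ iY fun j => ?_
    refine inter_pos hX.2.2.1 f U (d.iso U rfl) ?_ iY e ?_ (Δ j) (by rw [← hΔ.2]; exact ⟨j, rfl⟩)
    · intro y hy
      refine d.closed y ?_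
      by_contra hn
      exact hy hn
    · rintro C ⟨ξ, hξ, hξU⟩
      refine lt_of_le_of_ne (hnef C) fun h0 => ?_
      obtain ⟨i, hi⟩ := hall C h0.symm
      have hi' : Set.range C.ι = Z i := hi
      have h1 : ξ ∈ Z i := by rw [← hi']; exact hξ
      exact hξU ⟨ξ, Set.mem_iUnion.2 ⟨i, h1⟩, rfl⟩
  exact ⟨hamp, exists_gg f.left hamp iX e⟩

end K638.CanonAmple
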