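import Groth.Agent.ArSurf.K638.CanonRes
import Groth.Agent.Canon.K769.DetCore

/-!
# Flat base change of canonical sheaves (helper638)
-/

set_option autoImplicit false
universe u
open CategoryTheory CategoryTheory.Limits AlgebraicGeometry
open Groth.Agent

namespace K638.CanonFlat

open K482.DetPic K482.CanonTool K482.TensCalc K769.DetCore K638.CanonRes
open Groth.Agent.Grpsch.PicGrp

/-- Canonical sheaves are compatible with flat base change (existence included). -/
theorem isCanonical_flatBC {X Y Y' : Scheme.{u}} {f : X ⟶ Y} (u : Y' ⟶ Y) [Flat u] {ω : X.Modules}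
    (hω : Canon.IsCanonical f ω) :
    Canon.IsCanonical (pullback.snd f u) ((Scheme.Modules.pullback (pullback.fst f u)).obj ω) := by
  obtain ⟨W, i, g, c, n, rfl, hi, hg, hqc, hqs, hvia⟩ := hω
  have : IsImmersion i := hi.1
  have : Smooth g := SmoothOfRelativeDimension.smooth n g
  have hC := K482.ConRank.isFinLocFreeOfRank_conormal i hi
  have hΩ : FlatMod.IsFinLocFreeOfRank n (Omega.sheaf g) :=
    Groth.Agent.Dual.H339.OmegaRank.isFinLocFreeOfRank_omega n g
  -- base change of the factorisation
  let i' : pullback (i ≫ g) u ⟶ pullback g u :=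
    pullback.map (i ≫ g) u g u i (𝟙 _) (𝟙 _) (by simp) (by simp)
  have hi₁ : i' ≫ pullback.snd g u = pullback.snd (i ≫ g) u := by
    rw [pullback.lift_snd, Category.comp_id]
  have hi₂ : i' ≫ pullback.fst g u = pullback.fst (i ≫ g) u ≫ i := pullback.lift_fst _ _ _
  have H : IsPullback i' (pullback.fst (i ≫ g) u) (pullback.fst g u) i :=
    IsPullback.of_right (by rw [hi₁]; exact (IsPullback.of_hasPullback (i ≫ g) u).flip) hi₂
      (IsPullback.of_hasPullback g u).flip
  have hq' : QuasiCompact i' := MorphismProperty.of_isPullback H.flip inferInstance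
  obtain ⟨hCi', eCi'⟩ := det_of_iso (pullback.fst (i ≫ g) u) hC (conormal_bc_flat H)
  obtain ⟨hΩi', eΩi'⟩ := det_of_iso (pullback.fst g u) hΩ (omega_bc (IsPullback.of_hasPullback g u))
  have inv := isInvertible_of_via hC hΩ hvia
  have m1 := mk_via hC hΩ hvia inv
  have comm : pull i' (pull (pullback.fst g u) (det hΩ)) =
      pull (pullback.fst (i ≫ g) u) (pull i (det hΩ)) := by
    rw [← pull_comp, ← pull_comp, H.w]
  have hg' : SmoothOfRelativeDimension n (pullback.snd g u) :=
    (smoothOfRelativeDimension_isStableUnderBaseChange.{u} n).of_isPullback (IsPullback.of_hasPullback g u) hg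
  have hqs' : QuasiSeparated (pullback.snd g u) := inferInstance
  refine ⟨pullback g u, i', pullback.snd g u, c, n, hi₁, codim_of_isPullback H.flip hi, hg', hq', hqs', ?_⟩
  have inv' := Fdesc.LocGen.isInvertible_pullback (pullback.fst (i ≫ g) u) inv
  refine via_of_mk hCi' hΩi' inv' ?_
  rw [eCi', eΩi', comm, ← m1, map_mul, pull_mk]

end K638.CanonFlat
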