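import Groth.Agent.ArSurf.K482.CanonVia
import Groth.Agent.SDiv.K473.RegImmCalc
import Groth.Agent.Dual.H328.ClopenGlue

/-!
# Canonical sheaves restrict to opens and are invariant under isomorphisms (helper638)

* `codim_of_isPullback`: flat base change of regular immersions of constant codimension;
* `isCanonical_pullback`: `IsCanonical f ω → IsCanonical (j ≫ f) (j^* ω)` for `j` an open immersion.
-/

set_option autoImplicit false
universe u
open CategoryTheory CategoryTheory.Limits AlgebraicGeometry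
open Groth.Agent

namespace K638.CanonRes

open K482.DetPic K482.CanonTool K482.CanonVia
open Groth.Agent.Grpsch.PicGrp

/-- flat base change of regular immersions of codimension `c` -/
theorem codim_of_isPullback {k : RegImm.Kind} {c : ℕ} {Z X Z' X' : Scheme.{u}} {i : Z ⟶ X} {i' : Z' ⟶ X'}
    {g' : Z' ⟶ Z} {g : X' ⟶ X} [Flat g] (h : IsPullback g' i' i g) (hi : RegImm.IsRegularImmersionOfCodim k c i) :
    RegImm.IsRegularImmersionOfCodim k c i' := by
  refine ⟨MorphismProperty.of_isPullback (P := @IsImmersion) h hi.1, fun z' => ?_⟩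
  obtain ⟨U, hzU, hc, rs, hl, hrs, hk⟩ := hi.2 (g' z')
  have hz' : i' z' ∈ g ⁻¹ᵁ U.1 := by
    change g (i' z') ∈ U.1
    rwa [← Scheme.Hom.comp_apply, ← h.w, Scheme.Hom.comp_apply]
  obtain ⟨V, hV, hxV, hVW⟩ := exists_isAffineOpen_mem_and_subset (U := g ⁻¹ᵁ U.1) (x := i' z') hz'
  obtain ⟨hc', hk'⟩ := K473.RegImmCalc.ker_app_of_isPullback h U.2 hV hVW hc
  rw [hk, Ideal.map_ofList] at hk'
  refine ⟨⟨V, hV⟩, hxV, hc', rs.map (g.appLE U.1 V hVW).hom, by rw [List.length_map, hl],
    K473.SeqFlat.seq_map_of_flat k _ (Scheme.Hom.flat_appLE g U.2 hV hVW) hrs ?_, hk'⟩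
  rw [← hk']
  exact K473.RegImmCalc.ker_app_ne_top hxV

/-- A canonical sheaf restricts to a canonical sheaf on an open subscheme. -/
theorem isCanonical_pullback {X Y U : Scheme.{u}} {f : X ⟶ Y} (j : U ⟶ X) [IsOpenImmersion j] {ω : X.Modules}
    (hω : Canon.IsCanonical f ω) : Canon.IsCanonical (j ≫ f) ((Scheme.Modules.pullback j).obj ω) := by
  have hinv := isInvertible_canonical hω
  obtain ⟨Z, i, g, c, n, h, hi, hg, hqc, hqs, hω⟩ := hω
  have himm : IsImmersion i := hi.1
  obtain ⟨W, hW⟩ : ∃ W : Z.Opens, i ⁻¹ᵁ W = j.opensRange := by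
    obtain ⟨W, hWo, hW⟩ := i.isEmbedding.isInducing.isOpen_iff.1 j.opensRange.isOpen
    exact ⟨⟨W, hWo⟩, TopologicalSpace.Opens.ext hW⟩
  have hr : Set.range (j ≫ i) ⊆ Set.range W.ι := by
    rw [Scheme.Opens.range_ι]
    rintro _ ⟨u, rfl⟩
    have h1 : j u ∈ i ⁻¹ᵁ W := by rw [hW]; exact ⟨u, rfl⟩
    exact h1
  let i' : U ⟶ W := IsOpenImmersion.lift W.ι (j ≫ i) hr
  have hi'ι : i' ≫ W.ι = j ≫ i := IsOpenImmersion.lift_fac _ _ _
  have H : IsPullback i' j W.ι i := by
    refine IsOpenImmersion.isPullback i' j W.ι i hi'ι.symm ?_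
    rw [Scheme.Opens.opensRange_ι, hW]
  have hi'c : RegImm.IsRegularImmersionOfCodim .regular c i' := codim_of_isPullback H.flip hi
  have hqc' : QuasiCompact i' := MorphismProperty.of_isPullback H.flip hqc
  have hsm : SmoothOfRelativeDimension n (W.ι ≫ g) := IsZariskiLocalAtSource.comp hg W.ι
  have hqs' : QuasiSeparated (W.ι ≫ g) := inferInstance
  refine ⟨W, i', W.ι ≫ g, c, n, by rw [← Category.assoc, hi'ι, Category.assoc, h], hi'c, hsm, hqc', hqs', ?_⟩
  have hC := K482.ConRank.isFinLocFreeOfRank_conormal i hi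
  have hC' := K482.ConRank.isFinLocFreeOfRank_conormal i' hi'c
  have hΩ := Dual.H339.OmegaRank.isFinLocFreeOfRank_omega n g
  have hΩ' := Dual.H339.OmegaRank.isFinLocFreeOfRank_omega n (W.ι ≫ g)
  have hjinv := Fdesc.LocGen.isInvertible_pullback j hinv
  refine via_of_mk hC' hΩ' hjinv ?_
  have e1 := mk_via hC hΩ hω hinv
  have e2 : det hC' = pull j (det hC) := by
    rw [← det_pull j hC (Krr.H482.PullLambda.isFinLocFreeOfRank_pullback j hC)]
    have := Grpsch.ConormalIso.isIso_conormalMap_of_flat H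
    exact det_congr _ _ ⟨(asIso (Grpsch.ConormalIso.conormalMap H.w)).symm⟩
  have e3 : det hΩ' = pull W.ι (det hΩ) := by
    rw [← det_pull W.ι hΩ (Krr.H482.PullLambda.isFinLocFreeOfRank_pullback W.ι hΩ)]
    obtain ⟨e⟩ := Dual.H328.ClopenGlue.nonempty_omega_restrict (f := g) W
    exact det_congr _ _ ⟨e.symm ≪≫ (Scheme.Modules.restrictFunctorIsoPullback W.ι).app _⟩
  rw [e2, e3, ← pull_mk j hinv, ← map_mul, e1, ← pull_comp, ← pull_comp, hi'ι]

/-- Invariance of canonical sheaves under automorphisms over the base. -/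
theorem nonempty_pullback_iso {X Y : Scheme.{u}} {f : X ⟶ Y} [IsLocallyNoetherian Y] [LocallyOfFiniteType f]
    [QuasiCompact f] (e : X ⟶ X) [IsIso e] (he : e ≫ f = f) {ω : X.Modules} (hω : Canon.IsCanonical f ω) :
    Nonempty ((Scheme.Modules.pullback e).obj ω ≅ ω) := by
  have h := isCanonical_pullback e hω
  rw [he] at h
  exact canonical_unique h hω

end K638.CanonRes
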