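import Groth.Agent.ArSurf.K638.AmpleVert
import Groth.Agent.ShStab.K846.ChiPt
import Groth.Agent.Models.H54.DimDrop
import Groth.Agent.VarietyB.DegMult
import Groth.Agent.Ega3B.ChiFib
import Groth.Agent.ArSurf.K479.GenDim
import Groth.Agent.S1641
import Groth.Agent.S7642

/-!
# The degree on the generic fibre bounds the number of components of the closed fibre (helper638)

* `card_le_deg`: on a proper scheme of pure dimension one over a field, the number of irreducible components is at
  most the degree of an ample invertible module;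
* `deg_generic_eq_special`: degrees on the generic and the closed fibre agree;
* `ncard_le`: the number of components of the closed fibre is at most the degree on the generic fibre.
-/

set_option autoImplicit false
universe u
open CategoryTheory CategoryTheory.Limits AlgebraicGeometry TopologicalSpace
open Groth.Agent

namespace K638.DegFib

open Groth.Agent.Fdesc.LocGen Groth.Agent.CurvesC.CompGeom Groth.Agent.CurvesC.NodalPos

section Field

variable (k : Type u) [Field k] (X : Scheme.{u}) [X.Over (Spec (CommRingCat.of k))]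
  [IsProper (X ↘ (Spec (CommRingCat.of k)))] [IsNoetherian X]

theorem one_le_length (C : irreducibleComponents (X : Type u)) :
    (1 : ℤ) ≤ ((Module.length (X.presheaf.stalk C.2.1.genericPoint)
      (X.presheaf.stalk C.2.1.genericPoint)).toNat : ℤ) := by
  have h1 : Module.length (X.presheaf.stalk C.2.1.genericPoint) (X.presheaf.stalk C.2.1.genericPoint) ≠ ⊤ := by
    intro h
    exact VarietyB.DegMult.length_ne_top _ (CurvesB.UnitCoh.isCoh_structureModule X) C
      ((CycB.PushStalk.unitStalk X C.2.1.genericPoint).length_eq.symm.trans h)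
  have h2 : Module.length (X.presheaf.stalk C.2.1.genericPoint) (X.presheaf.stalk C.2.1.genericPoint) ≠ 0 := by
    rw [Ne, Module.length_eq_zero_iff]
    exact not_subsingleton _
  have h3 : (Module.length (X.presheaf.stalk C.2.1.genericPoint) (X.presheaf.stalk C.2.1.genericPoint)).toNat ≠ 0 := by
    rw [Ne, ENat.toNat_eq_zero, not_or]
    exact ⟨h2, h1⟩
  omega

theorem card_le_deg (hdim : topologicalKrullDim X ≤ 1)
    (hC : ∀ C ∈ irreducibleComponents (X : Type u), topologicalKrullDim C = 1) {L : X.Modules}
    (hL : CohB1.IsAmple L) :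
    (Set.ncard (irreducibleComponents (X : Type u)) : ℤ) ≤ Curv2.deg k X L 1 := by
  have hfin : Finite (irreducibleComponents (X : Type u)) :=
    NoetherianSpace.finite_irreducibleComponents.to_subtype
  let _ := Fintype.ofFinite (irreducibleComponents (X : Type u))
  have hpos := (Groth.Agent.S7642.result k X hdim L hL.1).1 hL
  rw [Groth.Agent.S1641.result k X hdim 1 L (Ega2.QCohLocal.isFinLocFreeOfRank_one_iff.2 hL.1),
    finsum_eq_sum_of_fintype]
  have h1 : (Set.ncard (irreducibleComponents (X : Type u)) : ℤ) =
      ∑ _Z : irreducibleComponents (X : Type u), (1 : ℤ) := by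
    rw [Finset.sum_const, Finset.card_univ, ← Nat.card_eq_fintype_card, Nat.card_coe_set_eq]
    simp
  rw [h1]
  refine Finset.sum_le_sum fun Z _ => ?_
  rw [if_pos (hC Z.1 Z.2)]
  have h2 := one_le_length X Z
  have h3 := hpos Z.1 Z.2 (hC Z.1 Z.2)
  nlinarith

end Field

section Fibre

variable {R : Type u} [CommRing R] [IsDomain R] [IsDiscreteValuationRing R]
  {Y : Over (Spec (CommRingCat.of R))}

/-- `Spec k ⟶ Spec R` -/
noncomputable abbrev κ (R : Type u) [CommRing R] [IsLocalRing R] :
    Spec (CommRingCat.of (IsLocalRing.ResidueField R)) ⟶ Spec (CommRingCat.of R) :=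
  Spec.map (CommRingCat.ofHom (IsLocalRing.residue R))

instance : IsClosedImmersion (κ R) := IsClosedImmersion.spec_of_surjective _ IsLocalRing.residue_surjective

/-- Euler characteristics of the generic and of the closed fibre. -/
theorem euler_eq [IsProper Y.hom] [Flat Y.hom] {F : Y.left.Modules} (hF : PicF.IsInvertible F) :
    @Curv2.euler (FractionRing R) _ (pullback Y.hom (Neron.genPt R)) ⟨pullback.snd Y.hom (Neron.genPt R)⟩
        ((Scheme.Modules.pullback (pullback.fst Y.hom (Neron.genPt R))).obj F) =
      @Curv2.euler (IsLocalRing.ResidueField R) _ (pullback Y.hom (κ R)) ⟨pullback.snd Y.hom (κ R)⟩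
        ((Scheme.Modules.pullback (pullback.fst Y.hom (κ R))).obj F) := by
  have hN : IsLocallyNoetherian Y.left := LocallyOfFiniteType.isLocallyNoetherian Y.hom
  have hq : Coh.IsQCoh F := Ega2.QCohLocal.isQCoh_of_isInvertible hF
  rw [K846.ChiPt.euler_pt Y.hom (Neron.genPt R) (IsLocalRing.closedPoint (FractionRing R)) _ _
      (IsPullback.of_hasPullback _ _) F hq,
    K846.ChiPt.euler_pt Y.hom (κ R) (IsLocalRing.closedPoint (IsLocalRing.ResidueField R)) _ _
      (IsPullback.of_hasPullback _ _) F hq]
  refine K846.ChiPt.eulerChar_eq_of_specializes Y.hom F (Ega3B.ChiFib.isFP_of_isInvertible hF)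
    (Ega3B.ChiFib.isFlatOver_of_isInvertible Y.hom hF) ?_
  have h1 : (κ R) (IsLocalRing.closedPoint (IsLocalRing.ResidueField R)) = IsLocalRing.closedPoint R :=
    IsLocalRing.comap_closedPoint (IsLocalRing.residue R)
  rw [h1]
  exact IsLocalRing.specializes_closedPoint _

theorem topologicalKrullDim_special_le [IsIntegral Y.left] [Flat Y.hom] [IsProper Y.hom]
    (hdim : topologicalKrullDim Y.left = 2) {Z : Scheme.{u}} (i : Z ⟶ Y.left) [IsClosedImmersion i]
    (hi : Set.range i = Y.hom ⁻¹' {(IsLocalRing.closedPoint R : PrimeSpectrum R)}) :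
    topologicalKrullDim Z ≤ 1 := by
  refine Models.H54.DimDrop.topologicalKrullDim_le_of_isClosedEmbedding i i.isClosedEmbedding ?_ 1
    (by rw [hdim]; rfl)
  intro h
  have h1 : genericPoint Y.left ∈ Set.range i := by rw [h]; trivial
  rw [hi] at h1
  exact AmpleVert.hom_gen h1

theorem range_fst : Set.range (pullback.fst Y.hom (κ R)) =
    Y.hom ⁻¹' {(IsLocalRing.closedPoint R : PrimeSpectrum R)} := by
  have h1 : Set.range (pullback.fst Y.hom (κ R)) = Y.hom ⁻¹' Set.range (κ R) :=
    Scheme.Pullback.range_fst _ _
  rw [h1]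
  congr 1
  ext x
  constructor
  · rintro ⟨y, rfl⟩
    have hy : y = IsLocalRing.closedPoint (IsLocalRing.ResidueField R) := Subsingleton.elim _ _
    rw [hy]
    exact IsLocalRing.comap_closedPoint (IsLocalRing.residue R)
  · rintro rfl
    exact ⟨_, IsLocalRing.comap_closedPoint (IsLocalRing.residue R)⟩

theorem isIrreducible_image_iff {A B : Type*} [TopologicalSpace A] [TopologicalSpace B] {i : A → B}
    (hi : Topology.IsEmbedding i) (t : Set A) : IsIrreducible (i '' t) ↔ IsIrreducible t := by
  constructor
  · intro h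
    refine ⟨h.nonempty.of_image, ?_⟩
    intro U V hU hV hUt hVt
    obtain ⟨U', hU', rfl⟩ := hi.isInducing.isOpen_iff.mp hU
    obtain ⟨V', hV', rfl⟩ := hi.isInducing.isOpen_iff.mp hV
    obtain ⟨x, hx1, hx2⟩ := hUt
    obtain ⟨y, hy1, hy2⟩ := hVt
    obtain ⟨z, ⟨w, hw, rfl⟩, hz⟩ := h.2 U' V' hU' hV' ⟨i x, ⟨x, hx1, rfl⟩, hx2⟩ ⟨i y, ⟨y, hy1, rfl⟩, hy2⟩
    exact ⟨w, hw, hz⟩
  · intro h
    exact h.image i hi.continuous.continuousOn

/-- Components of the closed fibre. -/
theorem ncard_components {Z : Scheme.{u}} (i : Z ⟶ Y.left) [IsClosedImmersion i]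
    (hi : Set.range i = Y.hom ⁻¹' {(IsLocalRing.closedPoint R : PrimeSpectrum R)}) :
    Set.ncard (Models.fibreComponents R Y) = Set.ncard (irreducibleComponents (Z : Type u)) := by
  have he : Topology.IsEmbedding i := i.isClosedEmbedding.isEmbedding
  have hr : Set.range i = Models.specialFibreSet R Y := hi
  have himg : Models.fibreComponents R Y = (fun C : Set Z => i '' C) '' irreducibleComponents (Z : Type u) := by
    ext S
    constructor
    · intro hS
      have hsub : S ⊆ Set.range i := by rw [hr]; exact hS.1.2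
      have hSi : i '' (i ⁻¹' S) = S := Set.image_preimage_eq_of_subset hsub
      have hirr : IsIrreducible (i ⁻¹' S) := by
        rw [← isIrreducible_image_iff he, hSi]
        exact hS.1.1
      refine ⟨i ⁻¹' S, ⟨hirr, ?_⟩, hSi⟩
      intro T hT hle
      have h1 : S ≤ i '' T := by
        conv_lhs => rw [← hSi]
        exact Set.image_mono hle
      have h2 : i '' T ⊆ S := hS.2 ⟨(isIrreducible_image_iff he T).2 hT, by
        rw [← hr]; exact Set.image_subset_range _ _⟩ h1
      exact Set.image_subset_iff.1 h2
    · rintro ⟨C, hC, rfl⟩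
      refine ⟨⟨(isIrreducible_image_iff he C).2 hC.1, by rw [← hr]; exact Set.image_subset_range _ _⟩, ?_⟩
      intro T hT hle
      have hsub : T ⊆ Set.range i := by rw [hr]; exact hT.2
      have hTi : i '' (i ⁻¹' T) = T := Set.image_preimage_eq_of_subset hsub
      have hirr : IsIrreducible (i ⁻¹' T) := by
        rw [← isIrreducible_image_iff he, hTi]
        exact hT.1
      have h1 : C ⊆ i ⁻¹' T := Set.image_subset_iff.1 hle
      have h2 : i ⁻¹' T ⊆ C := hC.2 hirr h1
      change T ⊆ i '' C
      rw [← hTi]
      exact Set.image_mono h2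
  rw [himg, Set.ncard_image_of_injective]
  exact Set.image_injective.2 i.isClosedEmbedding.injective

/-- The dimensions of the components. -/
theorem dim_components [IsIntegral Y.left] [Flat Y.hom] [IsProper Y.hom] (hdim : topologicalKrullDim Y.left = 2)
    {Z : Scheme.{u}} [CompactSpace Z] (i : Z ⟶ Y.left) [IsClosedImmersion i]
    (hi : Set.range i = Y.hom ⁻¹' {(IsLocalRing.closedPoint R : PrimeSpectrum R)})
    (C : Set Z) (hC : C ∈ irreducibleComponents (Z : Type u)) : topologicalKrullDim C = 1 := by
  have h1 := Models.H54.FibreAmple.dim_comp Y i hi hdim (fun x hx => AmpleVert.stalk_dim_closed hdim x hx) C hC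
  have h2 := VarietyB.DegComp.topologicalKrullDim_range_eq (IC Z C hC).subschemeι
  rw [h1, range_C] at h2
  exact h2

/-- **The number of components of the closed fibre is at most the degree on the generic fibre** of an ample
invertible module. -/
theorem ncard_le [IsIntegral Y.left] [Flat Y.hom] [IsProper Y.hom] (hdim : topologicalKrullDim Y.left = 2)
    {F : Y.left.Modules} (hF : CohB1.IsAmple F) :
    (Set.ncard (Models.fibreComponents R Y) : ℤ) ≤
      FGA.eulerCharLE (FractionRing R) ((Neron.genericFibre R).obj Y).left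
        ((Scheme.Modules.pullback (pullback.fst Y.hom (Neron.genPt R))).obj F) 1 -
      FGA.eulerCharLE (FractionRing R) ((Neron.genericFibre R).obj Y).left
        (Coh.structureModule ((Neron.genericFibre R).obj Y).left) 1 := by
  let k := IsLocalRing.ResidueField R
  let Z := pullback Y.hom (κ R)
  let i : Z ⟶ Y.left := pullback.fst Y.hom (κ R)
  have hi : IsClosedImmersion i := MorphismProperty.pullback_fst _ _ inferInstance
  let _ : Z.Over (Spec (CommRingCat.of k)) := ⟨pullback.snd Y.hom (κ R)⟩
  have hp : IsProper (Z ↘ Spec (CommRingCat.of k)) := inferInstanceAs (IsProper (pullback.snd Y.hom (κ R)))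
  have hZN : IsNoetherian Z := CurvesC.CurveCoh.noetherianSpace k Z
  have hr : Set.range i = Y.hom ⁻¹' {(IsLocalRing.closedPoint R : PrimeSpectrum R)} := range_fst
  have hZd := topologicalKrullDim_special_le hdim i hr
  let G := pullback Y.hom (Neron.genPt R)
  let _ : G.Over (Spec (CommRingCat.of (FractionRing R))) := ⟨pullback.snd Y.hom (Neron.genPt R)⟩
  have hpG : IsProper (G ↘ Spec (CommRingCat.of (FractionRing R))) :=
    inferInstanceAs (IsProper (pullback.snd Y.hom (Neron.genPt R)))
  have hGN : IsNoetherian G := CurvesC.CurveCoh.noetherianSpace (FractionRing R) G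
  have hGd : topologicalKrullDim G = 1 := K479.GenDim.topologicalKrullDim_genericFibre Y hdim
  have h1 := card_le_deg k Z hZd (fun C hC => dim_components hdim i hr C hC)
    (Sga5.AmpleFib.isAmple_pullback i hF)
  rw [ncard_components i hr]
  refine h1.trans (le_of_eq ?_)
  have e1 := euler_eq (Y := Y) hF.1
  have e2 := euler_eq (Y := Y) (isInvertible_structureModule (X := Y.left))
  have e3 : ∀ M : G.Modules, FGA.eulerCharLE (FractionRing R) G M 1 = Curv2.euler (FractionRing R) G M :=
    fun M => Fga.EulerLEAdd.eulerCharLE_eq_euler (FractionRing R) G 1 hGd.le M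
  change _ = FGA.eulerCharLE (FractionRing R) G _ 1 - FGA.eulerCharLE (FractionRing R) G (Coh.structureModule G) 1
  rw [e3, e3]
  have e4 : Curv2.euler (FractionRing R) G (Coh.structureModule G) =
      Curv2.euler (FractionRing R) G ((Scheme.Modules.pullback (pullback.fst Y.hom (Neron.genPt R))).obj
        (Coh.structureModule Y.left)) :=
    Fga.HodgePush.euler_congr (FractionRing R) G (CurvesA.HHMap.pullbackUnit _).symm
  have e5 : Curv2.euler k Z (Coh.structureModule Z) =
      Curv2.euler k Z ((Scheme.Modules.pullback i).obj (Coh.structureModule Y.left)) :=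
    Fga.HodgePush.euler_congr k Z (CurvesA.HHMap.pullbackUnit _).symm
  rw [e4]
  change Curv2.euler k Z _ - (1 : ℕ) * Curv2.euler k Z (Coh.structureModule Z) = _
  rw [e5]
  simp only [Nat.cast_one, one_mul]
  exact (congrArg₂ (· - ·) e1 e2).symm

end Fibre

end K638.DegFib
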