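import Groth.Agent.ArSurf.K638.CanonFlat
import Groth.Agent.ArSurf.K482.CurveDual
import Groth.Agent.ArSurf.K482.AdjMain
import Groth.Agent.Canon.K769.DetComp
import Groth.Agent.Synt.K561.LciDict
import Groth.Agent.Dual.H366.LciImm
import Groth.Agent.Dix.ProjProper
import Groth.Agent.Dix.GenFibre
import Groth.Agent.Fga.HodgePush
import Groth.Agent.ArSurf.K479.GenDim

/-!
# The Euler characteristic of a canonical sheaf of a projective integral curve (helper638)

* `lci_of_canonical`: a morphism with a canonical sheaf is a local complete intersection morphism;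
* `euler_canonical`: `χ(ω) = - χ(O)` for an integral curve embedded in a smooth proper scheme over a field.
-/

set_option autoImplicit false
universe u
open CategoryTheory CategoryTheory.Limits AlgebraicGeometry
open Groth.Agent

namespace K638.GenDual

open K482.CanonVia K482.Adj K482.ConComp

theorem lci_of_canonical {X Y : Scheme.{u}} {f : X ⟶ Y} {ω : X.Modules} (hω : Canon.IsCanonical f ω) :
    Dual3.IsLCIMor f := by
  obtain ⟨W, i, g, c, n, rfl, hi, hg, -, -, -⟩ := hω
  have : Smooth g := SmoothOfRelativeDimension.smooth n g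
  rw [Dual.H375.LciLocus.isLCIMor_iff]
  exact K561.LciDict.LM_comp (K769.DetComp.LM_of_regular hi) (K561.LciDict.LM_smooth g)

/-- Duality for a canonical sheaf of an integral proper curve embedded in a smooth proper scheme. -/
theorem euler_canonical (k : Type u) [Field k] (E : Scheme.{u}) [E.Over (Spec (CommRingCat.of k))]
    [IsProper (E ↘ (Spec (CommRingCat.of k)))] [IsIntegral E] (hdim : topologicalKrullDim E = 1)
    {P : Scheme.{u}} (π : P ⟶ Spec (CommRingCat.of k)) [IsProper π] (N : ℕ) [SmoothOfRelativeDimension N π]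
    (t : E ⟶ P) [IsClosedImmersion t] (hw : t ≫ π = E ↘ (Spec (CommRingCat.of k)))
    {ω : E.Modules} (hω : Canon.IsCanonical (E ↘ (Spec (CommRingCat.of k))) ω) :
    Curv2.euler k E ω = - Curv2.euler k E (Coh.structureModule E) := by
  have hsm : Smooth π := SmoothOfRelativeDimension.smooth N π
  have hNP : IsLocallyNoetherian P := LocallyOfFiniteType.isLocallyNoetherian π
  have ht : Mor2.IsRegularClosedImmersion t :=
    Dual.H366.LciImm.isRegularClosedImmersion t π (by rw [hw]; exact lci_of_canonical hω)
  obtain ⟨m, w, hm, hN, he, hvia⟩ := K482.CurveDual.exists_data k E hdim π N t ht hw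
  have hcan : Canon.IsCanonical (E ↘ (Spec (CommRingCat.of k))) w :=
    canonical_of_via t π hw (regImm_of_rank ht hN) ‹_› hvia
  rw [Fga.HodgePush.euler_congr k E (canonical_unique hω hcan).some, he, neg_neg]

section Gen

variable {R : Type u} [CommRing R] [IsDomain R] [IsDiscreteValuationRing R]

/-- Duality on the generic fibre. -/
theorem euler_generic (Y : Over (Spec (CommRingCat.of R))) [IsIntegral Y.left]
    (hdim : topologicalKrullDim Y.left = 2) [Flat Y.hom] (hproj : Neron.IsProjectiveOver R Y)
    {ωY : Y.left.Modules} (hωY : Canon.IsCanonical Y.hom ωY) :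
    @Curv2.euler (FractionRing R) _ (pullback Y.hom (Neron.genPt R)) ⟨pullback.snd Y.hom (Neron.genPt R)⟩
        ((Scheme.Modules.pullback (pullback.fst Y.hom (Neron.genPt R))).obj ωY) =
      - @Curv2.euler (FractionRing R) _ (pullback Y.hom (Neron.genPt R)) ⟨pullback.snd Y.hom (Neron.genPt R)⟩
        (Coh.structureModule _) := by
  have hp : IsProper Y.hom := Dix.GenFibre.isProper_of_isProjectiveOver hproj
  obtain ⟨N, j, hj, hw⟩ := hproj
  have hsm : SmoothOfRelativeDimension N (CohB1.ProjSpaceOver.toBase N (Spec (CommRingCat.of R))) := inferInstance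
  have hpr : IsProper (CohB1.ProjSpaceOver.toBase N (Spec (CommRingCat.of R))) :=
    Dix.ProjProper.isProper_toBase N _
  let πP := CohB1.ProjSpaceOver.toBase N (Spec (CommRingCat.of R))
  let Q := pullback πP (Neron.genPt R)
  let π : Q ⟶ Spec (CommRingCat.of (FractionRing R)) := pullback.snd πP (Neron.genPt R)
  let G := pullback Y.hom (Neron.genPt R)
  let t : G ⟶ Q := pullback.map Y.hom (Neron.genPt R) πP (Neron.genPt R) j (𝟙 _) (𝟙 _)
    (by rw [Category.comp_id]; exact hw.symm) (by simp)
  have ht₁ : t ≫ π = pullback.snd Y.hom (Neron.genPt R) := by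
    rw [pullback.lift_snd, Category.comp_id]
  have ht₂ : t ≫ pullback.fst πP (Neron.genPt R) = pullback.fst Y.hom (Neron.genPt R) ≫ j := pullback.lift_fst _ _ _
  have H : IsPullback t (pullback.fst Y.hom (Neron.genPt R)) (pullback.fst πP (Neron.genPt R)) j :=
    IsPullback.of_right (h₁₂ := pullback.snd πP (Neron.genPt R)) (h₂₂ := πP) (v₁₃ := Neron.genPt R)
      (by
        have h1 : t ≫ pullback.snd πP (Neron.genPt R) = pullback.snd Y.hom (Neron.genPt R) := ht₁
        rw [h1, hw]
        exact (IsPullback.of_hasPullback Y.hom (Neron.genPt R)).flip) ht₂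
      (IsPullback.of_hasPullback πP (Neron.genPt R)).flip
  have htc : IsClosedImmersion t := MorphismProperty.of_isPullback H.flip hj
  have hsmQ : SmoothOfRelativeDimension N π :=
    (smoothOfRelativeDimension_isStableUnderBaseChange.{u} N).of_isPullback (IsPullback.of_hasPullback πP _) hsm
  have hprQ : IsProper π := MorphismProperty.pullback_snd _ _ hpr
  let _ : G.Over (Spec (CommRingCat.of (FractionRing R))) := ⟨pullback.snd Y.hom (Neron.genPt R)⟩
  have hpG : IsProper (G ↘ Spec (CommRingCat.of (FractionRing R))) :=
    inferInstanceAs (IsProper (pullback.snd Y.hom (Neron.genPt R)))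
  have hGi : IsIntegral G := K479.GenDim.isIntegral_genericFibre Y
  have hGd : topologicalKrullDim G = 1 := K479.GenDim.topologicalKrullDim_genericFibre Y hdim
  have hfl : Flat (Neron.genPt R) := Dix.GenFibre.flat_genPt R
  exact euler_canonical (FractionRing R) G hGd π N t ht₁ (CanonFlat.isCanonical_flatBC (Neron.genPt R) hωY)

end Gen

end K638.GenDual
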